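import Groth.Agent.GrLib8.Avoid
import Groth.Agent.GrLib8.GrCMAss
import Groth.Agent.LC.DepthExt

/-!
# Homogeneous regular elements inside a homogeneous ideal
-/

set_option autoImplicit false
set_option linter.unusedSectionVars false

universe u

open DirectSum

namespace Groth.Agent.H1GrDual

open GrLib8

variable {R : Type u} [CommRing R] {σ : Type u} [SetLike σ R] [AddSubgroupClass σ R] (𝒜 : ℤ → σ) [GradedRing 𝒜]

/-- Homogeneous prime avoidance inside a homogeneous ideal living in positive degrees. -/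
theorem exists_mem_notMem (hpos : ∀ n < 0, ∀ r ∈ 𝒜 n, r = 0) (J : Ideal R) (hJ : J.IsHomogeneous 𝒜)
    (hJ0 : ∀ e ≤ (0 : ℤ), ∀ r ∈ 𝒜 e, r ∈ J → r = 0) (S : Finset (Ideal R))
    (hS : ∀ P ∈ S, P.IsPrime ∧ P.IsHomogeneous 𝒜 ∧ ¬ J ≤ P) :
    ∃ e : ℤ, 0 < e ∧ ∃ x ∈ 𝒜 e, x ∈ J ∧ ∀ P ∈ S, x ∉ P := by
  classical
  have hh : ∀ P ∈ S, ∃ e : ℤ, 0 < e ∧ ∃ h ∈ 𝒜 e, h ∈ J ∧ h ∉ P := by
    intro P hP
    obtain ⟨r, hrJ, hrP⟩ := SetLike.not_le_iff_exists.1 (hS P hP).2.2
    obtain ⟨i, hi⟩ : ∃ i, (decompose 𝒜 r i : R) ∉ P := by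
      by_contra hc
      push Not at hc
      exact hrP (sum_support_decompose 𝒜 r ▸ Ideal.sum_mem _ fun i _ => hc i)
    refine ⟨i, ?_, _, SetLike.coe_mem _, hJ i hrJ, hi⟩
    by_contra h
    exact hi (by rw [hJ0 i (not_lt.1 h) _ (SetLike.coe_mem _) (hJ i hrJ)]; exact zero_mem _)
  suffices ∀ T ⊆ S, ∃ e : ℤ, 0 < e ∧ ∃ x ∈ 𝒜 e, x ∈ J ∧ ∀ P ∈ T, x ∉ P from this S subset_rfl
  intro T
  induction T using Finset.strongInduction with
  | H T ih =>
    intro hTS
    rcases T.eq_empty_or_nonempty with rfl | hne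
    · rcases S.eq_empty_or_nonempty with rfl | ⟨P, hP⟩
      · exact ⟨1, one_pos, 0, zero_mem _, zero_mem _, by simp⟩
      · obtain ⟨e, he, h, hh', hhJ, -⟩ := hh P hP
        exact ⟨e, he, h, hh', hhJ, by simp⟩
    obtain ⟨P, hPT, hmin⟩ := T.exists_minimal hne
    obtain ⟨hPp, -, -⟩ := hS P (hTS hPT)
    obtain ⟨ef, hef, f, hf, hfJ, hfav⟩ := ih (T.erase P) (Finset.erase_ssubset hPT) ((Finset.erase_subset _ _).trans hTS)
    by_cases hfP : f ∈ P
    swap
    · refine ⟨ef, hef, f, hf, hfJ, fun Q hQ => ?_⟩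
      rcases eq_or_ne Q P with rfl | hQP
      exacts [hfP, hfav Q (Finset.mem_erase.2 ⟨hQP, hQ⟩)]
    have hg0 : ∀ U ⊆ T.erase P, ∃ e : ℤ, 0 ≤ e ∧ ∃ g ∈ 𝒜 e, g ∉ P ∧ ∀ Q ∈ U, g ∈ Q := by
      intro U
      induction U using Finset.induction_on with
      | empty => intro _; exact ⟨0, le_rfl, 1, SetLike.one_mem_graded 𝒜, fun h => hPp.ne_top ((Ideal.eq_top_iff_one P).2 h), by simp⟩
      | @insert Q U _ ihU =>
        intro hU
        obtain ⟨e, he, g, hg, hgP, hgU⟩ := ihU ((Finset.subset_insert _ _).trans hU)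
        obtain ⟨hQP, hQT⟩ := Finset.mem_erase.1 (hU (Finset.mem_insert_self Q U))
        have hnle : ¬ Q ≤ P := fun h => hQP (le_antisymm h (hmin hQT h))
        obtain ⟨r, hrQ, hrP⟩ := SetLike.not_le_iff_exists.1 hnle
        obtain ⟨i, hi⟩ : ∃ i, (decompose 𝒜 r i : R) ∉ P := by
          by_contra hc
          push Not at hc
          exact hrP (sum_support_decompose 𝒜 r ▸ Ideal.sum_mem _ fun i _ => hc i)
        have hi0 : 0 ≤ i := by
          by_contra h
          exact hi (by rw [hpos i (not_le.1 h) _ (SetLike.coe_mem _)]; exact zero_mem _)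
        refine ⟨e + i, by omega, g * (decompose 𝒜 r i : R), mul_mem_deg 𝒜 hg (SetLike.coe_mem _),
          fun h => (hPp.mem_or_mem h).elim hgP hi, fun Q' hQ' => ?_⟩
        rcases Finset.mem_insert.1 hQ' with rfl | hQ'
        · exact Ideal.mul_mem_left _ _ ((hS Q' (hTS hQT)).2.1 i hrQ)
        · exact Ideal.mul_mem_right _ _ (hgU Q' hQ')
    obtain ⟨e0, he0, g0, hg0', hg0P, hg0Q⟩ := hg0 _ subset_rfl
    obtain ⟨eh, heh, h, hh', hhJ, hhP⟩ := hh P (hTS hPT)
    let g := g0 * h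
    let eg := e0 + eh
    have hg : g ∈ 𝒜 eg := mul_mem_deg 𝒜 hg0' hh'
    have hgP : g ∉ P := fun hc => (hPp.mem_or_mem hc).elim hg0P hhP
    have hgJ : g ∈ J := Ideal.mul_mem_left _ _ hhJ
    have heg : 0 < eg := by simp only [eg]; omega
    refine ⟨eg * ef, mul_pos heg hef, f ^ eg.toNat + g ^ ef.toNat, add_mem ?_ ?_,
      add_mem (Ideal.pow_mem_of_mem _ hfJ _ (by omega)) (Ideal.pow_mem_of_mem _ hgJ _ (by omega)),
      fun Q hQ hmem => ?_⟩
    · have := SetLike.pow_mem_graded (A := 𝒜) eg.toNat hf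
      rwa [nsmul_eq_mul, Int.toNat_of_nonneg heg.le] at this
    · have := SetLike.pow_mem_graded (A := 𝒜) ef.toNat hg
      rwa [nsmul_eq_mul, Int.toNat_of_nonneg hef.le, mul_comm] at this
    · rcases eq_or_ne Q P with rfl | hQP
      · have hf' : f ^ eg.toNat ∈ Q := Ideal.pow_mem_of_mem _ hfP _ (by omega)
        exact hgP (hPp.mem_of_pow_mem _ ((Ideal.add_mem_iff_right _ hf').1 hmem))
      · have hQ' := Finset.mem_erase.2 ⟨hQP, hQ⟩
        have hg' : g ^ ef.toNat ∈ Q := Ideal.pow_mem_of_mem _ (Ideal.mul_mem_right _ _ (hg0Q Q hQ')) _ (by omega)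
        exact hfav Q hQ' ((hS Q (hTS hQ)).1.mem_of_pow_mem _ ((Ideal.add_mem_iff_left _ hg').1 hmem))

section Regular

variable {A : Type u} [CommRing A] [IsNoetherianRing A] {𝒜' : ℤ → AddSubgroup A} [GradedRing 𝒜']

/-- A graded module of depth `> dim A/J` at the irrelevant ideal has a homogeneous regular element in `J`. -/
theorem exists_regular_mem (hpos : ∀ n : ℤ, n < 0 → 𝒜' n = ⊥) {m : HomogeneousIdeal 𝒜'}
    (hm : GrLC.IsStarLocal 𝒜' m) (X : GrLC.GMod.{u} 𝒜') [Module.Finite A X.carrier] (J : Ideal A)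
    (hJ : J.IsHomogeneous 𝒜') (hJ0 : ∀ e ≤ (0 : ℤ), ∀ r ∈ 𝒜' e, r ∈ J → r = 0) (d : ℕ)
    (hd : ringKrullDim (A ⧸ J) ≤ d) (hX : ((d + 1 : ℕ) : ℕ∞) ≤ LocCoh.idealDepth m.toIdeal X.carrier) :
    ∃ e : ℤ, 0 < e ∧ ∃ x ∈ 𝒜' e, x ∈ J ∧ IsSMulRegular X.carrier x := by
  classical
  have hfin := associatedPrimes.finite A X.carrier
  have hpos' : ∀ n < 0, ∀ r ∈ 𝒜' n, r = 0 := fun n hn r hr => by rwa [hpos n hn, AddSubgroup.mem_bot] at hr
  haveI hmax := isMaximal_of_isStarLocal hpos hm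
  obtain ⟨e, he, x, hx, hxJ, hxS⟩ := exists_mem_notMem 𝒜' hpos' J hJ hJ0 hfin.toFinset fun p hp => by
    have hpa := hfin.mem_toFinset.1 hp
    obtain ⟨hpp, -⟩ := exists_ass_witness hpa
    haveI := hpp
    have hcore := GrCM.ass_eq_core 𝒜' X.gr hpa
    refine ⟨hpp, hcore ▸ (Ideal.homogeneousCore 𝒜' p).isHomogeneous, fun hle => ?_⟩
    have hpm : p ≤ m.toIdeal := by
      rw [← hcore]
      refine le_of_isStarLocal hm (J := Ideal.homogeneousCore 𝒜' p) fun h => hpp.ne_top ?_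
      rw [← hcore, h]
      exact HomogeneousIdeal.toIdeal_top
    let L := Localization.AtPrime m.toIdeal
    let Xm := LocalizedModule m.toIdeal.primeCompl X.carrier
    haveI : Module.Finite L Xm :=
      Module.Finite.of_isLocalizedModule m.toIdeal.primeCompl (LocalizedModule.mkLinearMap _ X.carrier)
    have hdisj : Disjoint (m.toIdeal.primeCompl : Set A) (p : Set A) :=
      Set.disjoint_left.2 fun a ha hb => ha (hpm hb)
    let Q : Ideal L := p.map (algebraMap A L)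
    haveI hQ : Q.IsPrime := IsLocalization.isPrime_of_isPrime_disjoint m.toIdeal.primeCompl L p hpp hdisj
    have hQp : Q.comap (algebraMap A L) = p :=
      IsLocalization.comap_map_of_isPrime_disjoint m.toIdeal.primeCompl L hpp hdisj
    have hQass : Q ∈ associatedPrimes L Xm :=
      Module.associatedPrimes.mem_associatedPrimes_of_comap_mem_associatedPrimes_of_isLocalizedModule
        m.toIdeal.primeCompl (LocalizedModule.mkLinearMap m.toIdeal.primeCompl X.carrier) Q (hQp.symm ▸ hpa)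
    have h1 : ((d + 1 : ℕ) : WithBot ℕ∞) ≤ ringKrullDim (A ⧸ J) := by
      refine le_trans (WithBot.coe_le_coe.2 ((hX.trans
        (LC.idealDepth_le_depth_localized m.toIdeal X.carrier m.toIdeal le_rfl)).trans
          (LC.depth_le_coheight_of_ass Xm (p := ⟨Q, hQ⟩) hQass))) ?_
      rw [Order.coheight_eq_krullDim_Ici, ringKrullDim_quotient]
      let c : Set.Ici (⟨Q, hQ⟩ : PrimeSpectrum L) → PrimeSpectrum.zeroLocus (J : Set A) := fun q =>
        ⟨PrimeSpectrum.comap (algebraMap A L) q.1, fun a ha => Ideal.comap_mono q.2 (hQp.ge (hle ha))⟩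
      exact Order.krullDim_le_of_strictMono c fun q q' h => lt_of_le_of_ne (Ideal.comap_mono h.le) fun he =>
        h.ne (Subtype.ext (PrimeSpectrum.localization_comap_injective L m.toIdeal.primeCompl (congrArg Subtype.val he)))
    have h2 := h1.trans hd
    norm_cast at h2
    omega
  exact ⟨e, he, x, hx, hxJ, isSMulRegular_of_forall_notMem fun p hp => hxS p (hfin.mem_toFinset.2 hp)⟩

end Regular

end Groth.Agent.H1GrDual
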