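import Groth.Agent.LC.GorCore
import Groth.Agent.LC.DepthExt

/-!
# Rees: `Ext` into a module with a regular sequence killing the source
-/

set_option autoImplicit false
set_option maxHeartbeats 1000000

universe u

open CategoryTheory RingTheory.Sequence
open scoped Pointwise

namespace Groth.Agent.H1GrDual

variable {R : Type u} [CommRing R]

theorem rees (S : Type u) [AddCommGroup S] [Module R S] : ∀ (rs : List R) (C : Type u) [AddCommGroup C]
    [Module R C], (∀ r ∈ rs, ∀ s : S, r • s = 0) → IsWeaklyRegular C rs →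
    (∀ j < rs.length, Subsingleton (Abelian.Ext.{u} (ModuleCat.of R S) (ModuleCat.of R C) j)) ∧
      Nonempty (Abelian.Ext.{u} (ModuleCat.of R S) (ModuleCat.of R C) rs.length ≃ₗ[R]
        (S →ₗ[R] C ⧸ (Ideal.ofList rs • ⊤ : Submodule R C)))
  | [], C, _, _, _, _ => by
    refine ⟨fun j hj => absurd hj (Nat.not_lt_zero j), ⟨?_⟩⟩
    let e₀ : (ModuleCat.of R S ⟶ ModuleCat.of R C) ≃ₗ[R]
        Abelian.Ext.{u} (ModuleCat.of R S) (ModuleCat.of R C) 0 :=
      { Abelian.Ext.addEquiv₀.symm with
        map_smul' := fun r f => Abelian.Ext.mk₀_smul r f }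
    exact e₀.symm.trans ((ModuleCat.homLinearEquiv (S := R)).trans
      (LinearEquiv.congrRight (Submodule.quotEquivOfEqBot _ (by simp)).symm))
  | x :: rs, C, _, _, hk, hreg => by
    rw [isWeaklyRegular_cons_iff] at hreg
    obtain ⟨hvan, ⟨e⟩⟩ := rees S rs (QuotSMulTop x C) (fun r hr => hk r (List.mem_cons_of_mem _ hr)) hreg.2
    have hS := IsSMulRegular.smulShortComplex_shortExact (M := ModuleCat.of R C) hreg.1
    let δ (j : ℕ) := hS.extClass.postcompOfLinear R (ModuleCat.of R S) (rfl : j + 1 = j + 1)
    have hsurj : ∀ j, Function.Surjective (δ j) := fun j z =>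
      Abelian.Ext.covariant_sequence_exact₁ (ModuleCat.of R S) hS z (by
        rw [ModuleCat.smulShortComplex_f_eq_smul_id]
        exact (Abelian.Ext.smul_eq_comp_mk₀ (X := ModuleCat.of R S) (Y := ModuleCat.of R C) z x).symm.trans
          (LC.smul_ext_eq_zero_of_smul (M := ModuleCat.of R C) (fun s => hk x List.mem_cons_self s) z)) rfl
    have hall : ∀ j ≤ rs.length, Subsingleton (Abelian.Ext.{u} (ModuleCat.of R S) (ModuleCat.of R C) j) := by
      intro j hj
      cases j with
      | zero =>
        refine subsingleton_of_forall_eq 0 fun z => ?_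
        obtain ⟨f, rfl⟩ := Abelian.Ext.addEquiv₀.symm.surjective z
        rw [show f = 0 from ModuleCat.hom_ext (LinearMap.ext fun s => hreg.1 ?_), map_zero]
        show x • f.hom s = x • (0 : C)
        rw [← map_smul, hk x List.mem_cons_self s, map_zero, smul_zero]
      | succ j =>
        haveI : Subsingleton (Abelian.Ext.{u} (ModuleCat.of R S)
            (ModuleCat.smulShortComplex (ModuleCat.of R C) x).X₃ j) := hvan j (by omega)
        exact (hsurj j).subsingleton
    refine ⟨fun j hj => hall j (by simpa [List.length_cons, Nat.lt_succ_iff] using hj), ⟨?_⟩⟩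
    have hinj : Function.Injective (δ rs.length) := (injective_iff_map_eq_zero _).2 fun z hz => by
      obtain ⟨y, hy⟩ := Abelian.Ext.covariant_sequence_exact₃ (ModuleCat.of R S) hS z rfl hz
      rw [← hy, show y = 0 from @Subsingleton.elim _ (hall rs.length le_rfl) _ _]
      exact Abelian.Ext.zero_comp (Y := ((ModuleCat.of R C).smulShortComplex x).X₂) (ModuleCat.of R S) rs.length (Abelian.Ext.mk₀ ((ModuleCat.of R C).smulShortComplex x).g) _ _
    exact ((LinearEquiv.ofBijective (δ rs.length) ⟨hinj, hsurj rs.length⟩).symm.trans e).trans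
      (LinearEquiv.congrRight (Submodule.quotOfListConsSMulTopEquivQuotSMulTopInner C x rs).symm)

end Groth.Agent.H1GrDual
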