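import Groth.Agent.H1GrDual.Res
import Groth.Agent.GrLib8.CanonPair
import Groth.Agent.GrLib8.StarDepth
import Groth.Prelude.Def_GrSeg
import Mathlib.RingTheory.Ideal.GoingUp

/-!
# Graded quotient rings, degree zero parts and pairings along a change of rings
-/

set_option autoImplicit false
set_option linter.unusedSectionVars false
set_option linter.style.haveILetI false
set_option maxHeartbeats 1600000

universe u

open DirectSum

namespace Groth.Agent.H1GrDual

open GrLib8 GrLib8.Canon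

section Quot

variable {R : Type u} [CommRing R] (𝒜 : ℤ → AddSubgroup R) [GradedRing 𝒜]

/-- The grading of the quotient ring by a homogeneous ideal. -/
@[instance_reducible] noncomputable def quotGraded (I : Ideal R) (hI : I.IsHomogeneous 𝒜) :
    GradedRing (quotPieces 𝒜 (I : Submodule R R)) :=
  letI : SetLike.GradedMonoid (quotPieces 𝒜 (I : Submodule R R)) :=
    { one_mem := ⟨1, SetLike.one_mem_graded 𝒜, rfl⟩
      mul_mem := by
        rintro i j _ _ ⟨a, ha, rfl⟩ ⟨b, hb, rfl⟩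
        exact ⟨a * b, SetLike.mul_mem_graded (A := 𝒜) ha hb, map_mul (Ideal.Quotient.mk I) a b⟩ }
  letI : Decomposition (quotPieces 𝒜 (I : Submodule R R)) :=
    decompositionOf _ (quot_span 𝒜 (I : Submodule R R)) (quot_indep 𝒜 (I : Submodule R R) hI)
  { }

end Quot

section Maps

variable {R T : Type u} [CommRing R] [CommRing T] {𝒜 : ℤ → AddSubgroup R} [GradedRing 𝒜]
  {𝒯 : ℤ → AddSubgroup T} [GradedRing 𝒯] (φ : R →+* T) (hφ : ∀ j, ∀ r ∈ 𝒜 j, φ r ∈ 𝒯 j)

include hφ in
theorem map_decompose' (r : R) (i : ℤ) : φ (decompose 𝒜 r i : R) = (decompose 𝒯 (φ r) i : T) := by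
  classical
  induction r using DirectSum.Decomposition.inductionOn 𝒜 with
  | zero => simp
  | add a b ha hb => simp only [map_add, decompose_add, DirectSum.add_apply, AddMemClass.coe_add, ha, hb]
  | @homogeneous j a =>
    rcases eq_or_ne j i with rfl | hne
    · rw [decompose_of_mem_same _ a.2, decompose_of_mem_same _ (hφ j _ a.2)]
    · rw [decompose_of_mem_ne _ a.2 hne, decompose_of_mem_ne _ (hφ j _ a.2) hne, map_zero]

include hφ in
theorem isHomogeneous_ker' : (RingHom.ker φ).IsHomogeneous 𝒜 := fun i r hr => by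
  rw [RingHom.mem_ker, map_decompose' φ hφ, RingHom.mem_ker.1 hr, decompose_zero, DirectSum.zero_apply,
    ZeroMemClass.coe_zero]

/-- The map of degree zero subrings. -/
def deg0Map : GrLC.deg0 𝒜 →+* GrLC.deg0 𝒯 :=
  (φ.comp (GrLC.deg0 𝒜).subtype).codRestrict (GrLC.deg0 𝒯) fun a => hφ 0 a a.2

include hφ in
/-- Above a maximal ideal, the only homogeneous prime of a finite extension is the maximal one. -/
theorem exists_pow_le [IsNoetherianRing T] (hint : φ.IsIntegral) {m : HomogeneousIdeal 𝒜} [hmax : m.toIdeal.IsMaximal]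
    {m' : HomogeneousIdeal 𝒯} (hm' : GrLC.IsStarLocal 𝒯 m') (hle : m.toIdeal.map φ ≤ m'.toIdeal) :
    ∃ N : ℕ, m'.toIdeal ^ N ≤ m.toIdeal.map φ := by
  refine Ideal.exists_pow_le_of_le_radical_of_fg ?_ (IsNoetherian.noetherian m'.toIdeal)
  rw [Ideal.radical_eq_sInf]
  refine le_sInf fun Q ⟨hQle, hQ⟩ => ?_
  haveI := hQ
  let K := Ideal.homogeneousCore 𝒯 Q
  haveI hK : K.toIdeal.IsPrime := Ideal.IsPrime.homogeneousCore hQ
  have hKle : m.toIdeal.map φ ≤ K.toIdeal := by
    have : (⟨m.toIdeal.map φ, isHomogeneous_map φ hφ m⟩ : HomogeneousIdeal 𝒯) ≤ K :=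
      (Ideal.homogeneousCore.gc 𝒯 _ Q).1 hQle
    exact this
  have hcomap : K.toIdeal.comap φ = m.toIdeal :=
    (hmax.eq_of_le (Ideal.comap_ne_top φ hK.ne_top) (Ideal.map_le_iff_le_comap.1 hKle)).symm
  have hKmax : K.toIdeal.IsMaximal :=
    Ideal.isMaximal_of_isIntegral_of_isMaximal_comap' φ hint K.toIdeal (hcomap ▸ hmax)
  have hKm : K ≤ m' := le_of_isStarLocal hm' fun h => hK.ne_top (by rw [h]; exact HomogeneousIdeal.toIdeal_top)
  have hne : m'.toIdeal ≠ ⊤ := fun h =>
    hm'.1.1 (HomogeneousIdeal.toIdeal_injective (h.trans HomogeneousIdeal.toIdeal_top.symm))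
  rw [← hKmax.eq_of_le hne hKm]
  exact Ideal.toIdeal_homogeneousCore_le 𝒯 Q

variable (e : GrLC.deg0 𝒜 ≃+* GrLC.deg0 𝒯) (he : ∀ a, (e a : T) = φ (a : R))
variable {C : Type u} [AddCommGroup C] [Module R C] [Module T C] (hC : ∀ (r : R) (c : C), φ r • c = r • c)
  {𝒞 : ℤ → AddSubgroup C}
variable {H : Type u} [AddCommGroup H] [Module R H] {ℋ : ℤ → AddSubgroup H}
  {HT : Type u} [AddCommGroup HT] [Module T HT] {ℋT : ℤ → AddSubgroup HT}
  (ι : HT ≃+ H) (hι : ∀ (r : R) x, ι (φ r • x) = r • ι x)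
  (hg : ∀ g, ∀ x ∈ ℋT g, ι x ∈ ℋ g) (hg' : ∀ g, ∀ y ∈ ℋ g, ι.symm y ∈ ℋT g)

include he hC hι hg hg' in
/-- A pairing goes up along a surjection. -/
theorem gpair_up (hφs : Function.Surjective φ) {B : C →+ H →+ GrLC.deg0 𝒜} (P : GPair 𝒜 𝒞 ℋ B) :
    ∃ B' : C →+ HT →+ GrLC.deg0 𝒯, GPair 𝒯 𝒞 ℋT B' := by
  let B' : C →+ HT →+ GrLC.deg0 𝒯 :=
    AddMonoidHom.mk' (fun c => e.toAddMonoidHom.comp ((B c).comp ι.toAddMonoidHom)) fun c c' =>
      AddMonoidHom.ext fun y => by
        show e (B (c + c') (ι y)) = e (B c (ι y)) + e (B c' (ι y))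
        rw [map_add B, AddMonoidHom.add_apply, map_add]
  refine ⟨B', ?_, ?_, ?_, ?_, ?_⟩
  · intro t c y
    obtain ⟨r, rfl⟩ := hφs t
    show e (B (φ r • c) (ι y)) = e (B c (ι (φ r • y)))
    rw [hC, hι, P.smul]
  · intro a c y
    obtain ⟨b, rfl⟩ := e.surjective a
    show e (B c (ι ((e b : T) • y))) = e b * e (B c (ι y))
    rw [he, hι, P.scal, map_mul]
  · intro g c hc d hd y hy
    show e (B c (ι y)) = 0
    rw [P.vanish g c hc d hd _ (hg d y hy), map_zero]
  · intro g c hc h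
    refine P.eq_zero g c hc fun y hy => ?_
    have := h _ (hg' _ y hy)
    change e (B c (ι (ι.symm y))) = 0 at this
    rwa [ι.apply_symm_apply, map_eq_zero_iff e e.injective] at this
  · intro g f hfa hfs
    obtain ⟨c, hc, hcv⟩ := P.exists_eq g (fun y => e.symm (f (ι.symm y)))
      (fun y hy y' hy' => by rw [map_add, hfa _ (hg' _ y hy) _ (hg' _ y' hy'), map_add])
      (fun a y hy => by
        have h1 : ι.symm ((a : R) • y) = (e a : T) • ι.symm y :=
          ι.injective (by rw [he, hι, ι.apply_symm_apply, ι.apply_symm_apply])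
        rw [h1, hfs (e a) _ (hg' _ y hy), map_mul, e.symm_apply_apply])
    refine ⟨c, hc, fun y hy => ?_⟩
    show e (B c (ι y)) = f y
    rw [hcv _ (hg _ y hy), ι.symm_apply_apply, e.apply_symm_apply]

include he hC hι hg hg' in
/-- A pairing goes down along any map which is bijective in degree zero. -/
theorem gpair_down {B : C →+ HT →+ GrLC.deg0 𝒯} (P : GPair 𝒯 𝒞 ℋT B) :
    ∃ B' : C →+ H →+ GrLC.deg0 𝒜, GPair 𝒜 𝒞 ℋ B' := by
  let B' : C →+ H →+ GrLC.deg0 𝒜 :=
    AddMonoidHom.mk' (fun c => e.symm.toAddMonoidHom.comp ((B c).comp ι.symm.toAddMonoidHom)) fun c c' =>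
      AddMonoidHom.ext fun y => by
        show e.symm (B (c + c') (ι.symm y)) = e.symm (B c (ι.symm y)) + e.symm (B c' (ι.symm y))
        rw [map_add B, AddMonoidHom.add_apply, map_add]
  have hιs : ∀ (r : R) y, ι.symm (r • y) = φ r • ι.symm y := fun r y =>
    ι.injective (by rw [hι, ι.apply_symm_apply, ι.apply_symm_apply])
  refine ⟨B', ?_, ?_, ?_, ?_, ?_⟩
  · intro r c y
    show e.symm (B (r • c) (ι.symm y)) = e.symm (B c (ι.symm (r • y)))
    rw [← hC, hιs, P.smul]
  · intro a c y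
    show e.symm (B c (ι.symm ((a : R) • y))) = a * e.symm (B c (ι.symm y))
    rw [hιs, ← he, P.scal, map_mul, e.symm_apply_apply]
  · intro g c hc d hd y hy
    show e.symm (B c (ι.symm y)) = 0
    rw [P.vanish g c hc d hd _ (hg' d y hy), map_zero]
  · intro g c hc h
    refine P.eq_zero g c hc fun y hy => ?_
    have := h _ (hg _ y hy)
    change e.symm (B c (ι.symm (ι y))) = 0 at this
    rwa [ι.symm_apply_apply, map_eq_zero_iff e.symm e.symm.injective] at this
  · intro g f hfa hfs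
    obtain ⟨c, hc, hcv⟩ := P.exists_eq g (fun y => e (f (ι y)))
      (fun y hy y' hy' => by rw [map_add, hfa _ (hg _ y hy) _ (hg _ y' hy'), map_add])
      (fun a y hy => by
        obtain ⟨b, rfl⟩ := e.surjective a
        rw [he, hι, hfs b _ (hg _ y hy), map_mul])
    refine ⟨c, hc, fun y hy => ?_⟩
    show e.symm (B c (ι.symm y)) = f y
    rw [hcv _ (hg' _ y hy), ι.apply_symm_apply, e.symm_apply_apply]

end Maps

/-- A pairing with values in the degree zero field presents the graded dual. -/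
theorem isGDual_of_gpair {T : Type u} [CommRing T] {𝒯 : ℤ → AddSubgroup T} [GradedRing 𝒯]
    {D : Type u} [AddCommGroup D] [Module T D] {𝒟 : ℤ → AddSubgroup D} [Decomposition 𝒟]
    {H : Type u} [AddCommGroup H] [Module T H] {ℋ : ℤ → AddSubgroup H} [Decomposition ℋ]
    {B : D →+ H →+ GrLC.deg0 𝒯} (P : GPair 𝒯 𝒟 ℋ B) (h0 : IsField (GrLC.deg0 𝒯)) :
    letI : Field (GrLC.deg0 𝒯) := h0.toField
    ∃ β : D →ₗ[GrLC.deg0 𝒯] H →ₗ[GrLC.deg0 𝒯] GrLC.deg0 𝒯, GrSeg.IsGDual T ℋ 𝒟 β := by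
  letI : Field (GrLC.deg0 𝒯) := h0.toField
  let β : D →ₗ[GrLC.deg0 𝒯] H →ₗ[GrLC.deg0 𝒯] GrLC.deg0 𝒯 :=
    { toFun := fun d =>
        { toFun := B d
          map_add' := map_add (B d)
          map_smul' := fun a y => P.scal a d y }
      map_add' := fun d d' => LinearMap.ext fun y => by
        show B (d + d') y = B d y + B d' y
        rw [map_add B, AddMonoidHom.add_apply]
      map_smul' := fun a d => LinearMap.ext fun y => (P.smul (a : T) d y).trans (P.scal a d y) }
  refine ⟨β, fun r d x => P.smul r d x, P.vanish, P.eq_zero, fun g f => ?_⟩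
  exact P.exists_eq g f (fun y _ y' _ => map_add f y y') fun a y _ => map_smul f a y

end Groth.Agent.H1GrDual
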