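import Groth.Agent.H1GrDual.Seq
import Groth.Agent.H1GrDual.Tools
import Groth.Agent.H1GrDual.Rees
import Groth.Agent.GrLib8.TopDual
import Groth.Agent.EGA41Lib.IntDim

/-!
# The canonical module of a finite extension as an `Ext` module
-/

set_option autoImplicit false
set_option linter.unusedSectionVars false
set_option linter.style.haveILetI false
set_option maxHeartbeats 3200000

universe u

open DirectSum RingTheory.Sequence

namespace Groth.Agent.H1GrDual

open GrLib8 GrLib8.Canon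

variable {R : Type u} [CommRing R] [LocCoh.IsCohenMacaulayRing R] {𝒜 : ℤ → AddSubgroup R} [GradedRing 𝒜]
  (hpos : ∀ n : ℤ, n < 0 → 𝒜 n = ⊥) (h0 : IsField (GrLC.deg0 𝒜)) {m : HomogeneousIdeal 𝒜}
  (hm : GrLC.IsStarLocal 𝒜 m) {n : ℕ} (hn : ringKrullDim R = n) {I : GrLC.StarInjRes 𝒜 𝒜}
  {C : Type u} [AddCommGroup C] [Module R C] {𝒞 : ℤ → AddSubgroup C} [Decomposition 𝒞] [SetLike.GradedSMul 𝒜 𝒞]
  {B : C →+ I.H m n →+ GrLC.deg0 𝒜} (P : GPair 𝒜 𝒞 (I.Hgr m n) B)
  {S : Type u} [CommRing S] [IsNoetherianRing S] [Algebra R S] [Module.Finite R S] {𝒜' : ℤ → AddSubgroup S}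
  [GradedRing 𝒜'] (hf : ∀ j, ∀ r ∈ 𝒜 j, algebraMap R S r ∈ 𝒜' j)
  (hf0 : ∀ s ∈ 𝒜' 0, ∃ r ∈ 𝒜 (0 : ℤ), algebraMap R S r = s)
  {m' : HomogeneousIdeal 𝒜'} (hm' : GrLC.IsStarLocal 𝒜' m') (hle : m.toIdeal.map (algebraMap R S) ≤ m'.toIdeal)
  {n' : ℕ} (hn' : ringKrullDim S = n') {I' : GrLC.StarInjRes 𝒜' 𝒜'}
  {C' : Type u} [AddCommGroup C'] [Module S C'] [Module R C'] [IsScalarTower R S C'] {𝒞' : ℤ → AddSubgroup C'}
  [Decomposition 𝒞'] [SetLike.GradedSMul 𝒜' 𝒞']
  {B' : C' →+ I'.H m' n' →+ GrLC.deg0 𝒜'} (P' : GPair 𝒜' 𝒞' (I'.Hgr m' n') B')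

include hpos h0 hm hn P hf hf0 hm' hle hn' P' in
theorem nonempty_ext_equiv :
    Nonempty (C' ≃ₗ[R] CategoryTheory.Abelian.Ext.{u} (ModuleCat.of R S) (ModuleCat.of R C) (n - n')) := by
  classical
  have hgs : SetLike.GradedSMul 𝒜' 𝒞' := inferInstance
  haveI : Nontrivial S := by
    by_contra hh
    haveI := not_nontrivial_iff_subsingleton.1 hh
    rw [ringKrullDim_eq_bot_of_subsingleton] at hn'
    exact WithBot.bot_ne_coe hn'
  let J : Ideal R := RingHom.ker (algebraMap R S)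
  have hJ : J.IsHomogeneous 𝒜 := isHomogeneous_ker' (algebraMap R S) hf
  have hJ0 : ∀ e ≤ (0 : ℤ), ∀ r ∈ 𝒜 e, r ∈ J → r = 0 := by
    intro e he r hr hrJ
    rcases he.lt_or_eq with he | rfl
    · rwa [hpos e he, AddSubgroup.mem_bot] at hr
    by_contra hne
    obtain ⟨b, hb⟩ := h0.mul_inv_cancel (a := (⟨r, hr⟩ : GrLC.deg0 𝒜)) fun h => hne (congrArg Subtype.val h)
    have h1 : r * (b : R) = 1 := congrArg Subtype.val hb
    have h2 := congrArg (algebraMap R S) h1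
    rw [map_mul, RingHom.mem_ker.1 hrJ, zero_mul, map_one] at h2
    exact zero_ne_one h2
  haveI hmax := isMaximal_of_isStarLocal hpos hm
  have hJm : J ≤ m.toIdeal := le_of_isStarLocal hm (J := ⟨J, hJ⟩) fun h => by
    have h1 : (1 : R) ∈ J := (congrArg HomogeneousIdeal.toIdeal h).ge trivial
    exact one_ne_zero ((map_one (algebraMap R S)).symm.trans h1)
  haveI : Algebra.IsIntegral R S := Algebra.IsIntegral.of_finite R S
  have hdJ : ringKrullDim (R ⧸ J) = ringKrullDim S := by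
    letI : Algebra (R ⧸ J) S := (RingHom.kerLift (algebraMap R S)).toAlgebra
    haveI : IsScalarTower R (R ⧸ J) S := IsScalarTower.of_algebraMap_eq fun _ => rfl
    haveI : Algebra.IsIntegral (R ⧸ J) S := Algebra.IsIntegral.tower_top R
    exact (EGA41Lib.ringKrullDim_eq_of_integral (A := R ⧸ J) (B := S) (RingHom.kerLift_injective _)).symm
  have hn'n : n' ≤ n := by
    have h := ringKrullDim_quotient_le J
    rw [hdJ, hn', hn] at h
    exact_mod_cast h
  obtain ⟨rs, hlen, hmem, hregR, hregC, X, π, hπ, hπk, hπg, hdimX, D, σ, hσ, hσk, E, B₂, P₂⟩ :=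
    exists_chain hpos h0 hm hn C 𝒞 I P J hJ hJ0 hJm (le_of_eq (hdJ.trans hn')) (n - n') 0 (by omega)
  revert B₂
  rw [Nat.zero_add]
  intro B₂ P₂
  -- the quotient ring
  let I₀ : Ideal R := Ideal.ofList rs
  have hI₀ : I₀.IsHomogeneous 𝒜 := Ideal.homogeneous_span 𝒜 _ fun r hr => (hmem r hr).2
  have hI₀J : I₀ ≤ J := Ideal.span_le.2 fun r hr => (hmem r hr).1
  let 𝒬 : ℤ → AddSubgroup (R ⧸ I₀) := quotPieces 𝒜 (I₀ : Submodule R R)
  letI : GradedRing 𝒬 := quotGraded 𝒜 I₀ hI₀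
  haveI : IsNoetherianRing (R ⧸ I₀) := Ideal.Quotient.isNoetherianRing I₀
  let q : R →+* R ⧸ I₀ := Ideal.Quotient.mk I₀
  have hqs : Function.Surjective q := Ideal.Quotient.mk_surjective
  have hq : ∀ j, ∀ r ∈ 𝒜 j, q r ∈ 𝒬 j := fun j r hr => ⟨r, hr, rfl⟩
  let f : R ⧸ I₀ →+* S := Ideal.Quotient.lift I₀ (algebraMap R S) fun r hr => hI₀J hr
  have hfd : ∀ j, ∀ r ∈ 𝒬 j, f r ∈ 𝒜' j := by
    rintro j _ ⟨r, hr, rfl⟩
    exact hf j r hr
  -- degree zero
  letI : Field (GrLC.deg0 𝒜) := h0.toField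
  have he₀ : Function.Bijective (deg0Map q hq) := by
    refine ⟨(injective_iff_map_eq_zero _).2 fun a ha => Subtype.ext ?_, fun b => ?_⟩
    · exact hJ0 0 le_rfl a a.2 (hI₀J (Ideal.Quotient.eq_zero_iff_mem.1 (congrArg Subtype.val ha)))
    · obtain ⟨r, hr, hrb⟩ := b.2
      exact ⟨⟨r, hr⟩, Subtype.ext hrb⟩
  let e₀ := RingEquiv.ofBijective _ he₀
  have h0Q : IsField (GrLC.deg0 𝒬) := MulEquiv.isField h0 e₀.symm.toMulEquiv
  letI : Field (GrLC.deg0 𝒬) := h0Q.toField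
  have he₁ : Function.Bijective (deg0Map f hfd) := by
    refine ⟨RingHom.injective _, fun b => ?_⟩
    obtain ⟨r, hr, hrb⟩ := hf0 b b.2
    exact ⟨⟨q r, hq 0 r hr⟩, Subtype.ext hrb⟩
  let e₁ := RingEquiv.ofBijective _ he₁
  -- the ideals
  let mQ : HomogeneousIdeal 𝒬 := ⟨m.toIdeal.map q, isHomogeneous_map q hq m⟩
  haveI hmQ : mQ.toIdeal.IsMaximal :=
    Ideal.IsMaximal.map_of_surjective_of_ker_le hqs (by
      rw [Ideal.mk_ker]
      exact hI₀J.trans hJm)
  have hfle : mQ.toIdeal.map f ≤ m'.toIdeal := by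
    show (m.toIdeal.map q).map f ≤ _
    rw [Ideal.map_map]
    exact hle
  have hfint : f.IsIntegral := RingHom.IsIntegral.tower_top q f (algebraMap_isIntegral_iff.2 ‹_›)
  obtain ⟨N, hN⟩ := exists_pow_le f hfd hfint hm' hfle
  -- cohomology of the quotient ring
  haveI : SetLike.GradedSMul 𝒬 𝒬 := ⟨fun {i j a b} ha hb => SetLike.mul_mem_graded (A := 𝒬) ha hb⟩
  let M₀ : GrLC.GMod.{u} 𝒬 := { carrier := R ⧸ I₀, gr := 𝒬 }
  have hπk' : LinearMap.ker π = (I₀ : Submodule R R) := by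
    rw [hπk, smul_eq_mul, Ideal.mul_top]
  let eX : (R ⧸ I₀) ≃ₗ[R] X.carrier := (Submodule.quotEquivOfEq _ _ hπk'.symm).trans (π.quotKerEquivOfSurjective hπ)
  let eX' : X.carrier →ₗ[R] (res q hq M₀).carrier :=
    { toFun := fun x => eX.symm x
      map_add' := map_add eX.symm
      map_smul' := fun r x => by
        rw [map_smul]
        generalize eX.symm x = z
        obtain ⟨z, rfl⟩ := Ideal.Quotient.mk_surjective z
        rfl }
  have heX : GrLC.IsGrHom X.gr (res q hq M₀).gr eX' := fun g x hx => by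
    obtain ⟨r, hr, rfl⟩ := exists_preimage_mem (ℳ := 𝒜) π (isGrHomDeg_zero_iff.2 hπg) hx (hπ x)
    rw [sub_zero] at hr
    refine ⟨r, hr, ?_⟩
    show _ = eX.symm (π r)
    rw [eq_comm, LinearEquiv.symm_apply_eq]
    rfl
  let IQ : GrLC.StarInjRes 𝒬 M₀.gr := starRes 𝒬
  obtain ⟨ι₀, hι₀, hg₀, hg₀'⟩ := exists_change q hq m mQ le_rfl (N := 1) (pow_one _).le eX' heX
    eX.symm.bijective E IQ n'
  -- the module `D` over the quotient ring
  have hkill : Module.IsTorsionBySet R D.carrier (I₀ : Set R) := by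
    rintro d ⟨a, ha⟩
    obtain ⟨c, rfl⟩ := hσ d
    show a • σ c = 0
    rw [← map_smul, ← LinearMap.mem_ker, hσk]
    exact Submodule.smul_mem_smul ha trivial
  letI : Module (R ⧸ I₀) D.carrier := hkill.module
  haveI : SetLike.GradedSMul 𝒬 D.gr := ⟨fun {i g a x} ha hx => by
    obtain ⟨r, hr, rfl⟩ := ha
    exact D.gsmul.smul_mem hr hx⟩
  obtain ⟨B₃, P₃⟩ := gpair_up q e₀ (fun _ => rfl) (C := D.carrier) (fun r c => rfl) ι₀ hι₀ hg₀ hg₀' hqs P₂
  -- the module `S` over the quotient ring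
  let M₁ : GrLC.GMod.{u} 𝒬 := res f hfd (GrLC.GMod.of 𝒜' S 𝒜')
  haveI : Module.Finite (R ⧸ I₀) M₁.carrier := RingHom.Finite.of_comp_finite (f := q) (g := f)
    (RingHom.finite_algebraMap.2 ‹_› :)
  let EM : GrLC.StarInjRes 𝒬 M₁.gr := starRes M₁.gr
  obtain ⟨ι₁, hι₁, hg₁, hg₁'⟩ := exists_change f hfd mQ m' hfle hN (P := M₁) (M := GrLC.GMod.of 𝒜' S 𝒜')
    LinearMap.id (fun _ _ hx => hx) Function.bijective_id EM I' n'
  letI : Module (R ⧸ I₀) C' := Module.compHom C' f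
  haveI : SetLike.GradedSMul 𝒬 𝒞' :=
    ⟨fun {i g a x} ha hx => hgs.smul_mem (hfd i a ha) hx⟩
  obtain ⟨B₄, P₄⟩ := gpair_down f e₁ (fun _ => rfl) (C := C') (fun r c => rfl) ι₁ hι₁ hg₁ hg₁' P'
  -- duality over the quotient ring
  letI := (isInternal_Hgr M₀.gr IQ mQ n').chooseDecomposition
  letI := (isInternal_Hgr M₁.gr EM mQ n').chooseDecomposition
  obtain ⟨βK, hK⟩ := isGDual_of_gpair (H := IQ.H mQ n') P₃ h0Q
  obtain ⟨βD, hD⟩ := isGDual_of_gpair (H := EM.H mQ n') P₄ h0Q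
  have hdQ : ringKrullDim (R ⧸ I₀) ≤ n' := by
    rw [← Module.supportDim_quotient_eq_ringKrullDim, Module.supportDim_eq_of_equiv eX]
    revert hdimX
    generalize Module.supportDim R X.carrier = a
    intro hdimX
    cases a with
    | bot => exact bot_le
    | coe a =>
      have h : a + ((n - n' : ℕ) : ℕ∞) ≤ n := WithBot.coe_le_coe.1 hdimX
      refine WithBot.coe_le_coe.2 ?_
      cases a with
      | top => rw [top_add] at h; exact absurd h (not_le.2 (ENat.natCast_lt_top n))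
      | coe a =>
        refine Nat.cast_le.2 ?_
        have h' : a + (n - n') ≤ n := by exact_mod_cast h
        omega
  haveI : IsScalarTower (GrLC.deg0 𝒬) (R ⧸ I₀) (IQ.H mQ n') := ⟨fun a r x => mul_smul (a : R ⧸ I₀) r x⟩
  haveI : IsScalarTower (GrLC.deg0 𝒬) (R ⧸ I₀) (EM.H mQ n') := ⟨fun a r x => mul_smul (a : R ⧸ I₀) r x⟩
  obtain ⟨ε, -⟩ := exists_top_dual (k := GrLC.deg0 𝒬) (I := IQ) (EM := EM) (M := M₁.carrier) mQ hdQ hK hD
  -- back to `R`
  let hom : (M₁.carrier →ₗ[R ⧸ I₀] D.carrier) ≃ₗ[R] (S →ₗ[R] D.carrier) :=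
    { toFun := fun g =>
        { toFun := fun s => g s
          map_add' := map_add g
          map_smul' := fun r s => by
            show g (r • s) = r • g s
            rw [Algebra.smul_def]
            exact g.map_smul (q r) s }
      map_add' := fun g g' => rfl
      map_smul' := fun r g => rfl
      invFun := fun g =>
        { toFun := fun s => g s
          map_add' := map_add g
          map_smul' := fun a s => by
            obtain ⟨r, rfl⟩ := hqs a
            show g (algebraMap R S r * (show S from s)) = r • g (show S from s)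
            rw [← Algebra.smul_def]
            exact g.map_smul r _ }
      left_inv := fun g => rfl
      right_inv := fun g => rfl }
  let εR : C' ≃ₗ[R] (M₁.carrier →ₗ[R ⧸ I₀] D.carrier) :=
    { ε.toAddEquiv with
      map_smul' := fun r c => by
        show ε (r • c) = r • ε c
        rw [show r • c = q r • c from (algebraMap_smul S r c).symm, map_smul]
        rfl }
  obtain ⟨-, ⟨eExt⟩⟩ := rees S rs C (fun r hr s => by
    rw [Algebra.smul_def, RingHom.mem_ker.1 (hmem r hr).1, zero_mul]) hregC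
  rw [hlen] at eExt
  exact ⟨(εR.trans hom).trans ((eExt.trans (LinearEquiv.congrRight
    ((Submodule.quotEquivOfEq _ _ hσk.symm).trans (σ.quotKerEquivOfSurjective hσ)))).symm)⟩

end Groth.Agent.H1GrDual
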