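import Groth.Agent.GrLib8.CanonPair
import Groth.Agent.GrLib8.RegTop
import Groth.Agent.GrLib8.TopDual

/-!
# Pairings with local cohomology descend along a regular element
-/

set_option autoImplicit false
set_option linter.unusedSectionVars false
set_option maxHeartbeats 3200000

universe u

open DirectSum

namespace Groth.Agent.H1GrDual

open GrLib8 GrLib8.Canon

variable {R : Type u} [CommRing R] {𝒜 : ℤ → AddSubgroup R} [GradedRing 𝒜]

section Left

variable {C : Type u} [AddCommGroup C] [Module R C] {𝒞 : ℤ → AddSubgroup C} [Decomposition 𝒞]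
  {H : Type u} [AddCommGroup H] [Module R H] {ℋ : ℤ → AddSubgroup H}
  {B : C →+ H →+ GrLC.deg0 𝒜} (P : GPair 𝒜 𝒞 ℋ B)

include P in
theorem pair_left' (c : C) (n : ℤ) {y : H} (hy : y ∈ ℋ (-n)) : B c y = B (decompose 𝒞 c n : C) y := by
  classical
  induction c using DirectSum.Decomposition.inductionOn 𝒞 with
  | zero => simp
  | add a b ha hb => rw [map_add, AddMonoidHom.add_apply, ha, hb, decompose_add, DirectSum.add_apply,
      AddMemClass.coe_add, map_add, AddMonoidHom.add_apply]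
  | @homogeneous i c =>
    rcases eq_or_ne i n with rfl | hne
    · rw [decompose_of_mem_same 𝒞 c.2]
    · rw [decompose_of_mem_ne 𝒞 c.2 hne, map_zero, AddMonoidHom.zero_apply]
      exact P.vanish i c c.2 (-n) (by omega) y hy

include P in
theorem eq_zero_of_forall {c : C} (h : ∀ y, B c y = 0) : c = 0 := by
  classical
  rw [← sum_support_decompose 𝒞 c]
  exact Finset.sum_eq_zero fun n _ => P.eq_zero n _ (SetLike.coe_mem _) fun y hy =>
    (pair_left' P c n hy).symm.trans (h y)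

end Left

variable [IsNoetherianRing R] {m : HomogeneousIdeal 𝒜} (h0 : IsField (GrLC.deg0 𝒜))

include h0 in
/-- If `H^p(X) = 0 = H^{p+1}(X/xX)`, a pairing of `D` with `H^{p+1}(X)` gives one of `D/xD` with `H^p(X/xX)`. -/
theorem step {X : GrLC.GMod.{u} 𝒜} {D : GrLC.GMod.{u} 𝒜} {p : ℕ} (E : GrLC.StarInjRes 𝒜 X.gr)
    {B : D.carrier →+ E.H m (p + 1) →+ GrLC.deg0 𝒜} (P : GPair 𝒜 D.gr (E.Hgr m (p + 1)) B)
    {x : R} {d : ℤ} (hx : x ∈ 𝒜 d) (hreg : IsSMulRegular X.carrier x)
    {Y : GrLC.GMod.{u} 𝒜} (π : X.carrier →ₗ[R] Y.carrier)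
    (hμ : GrLC.IsGrHomDeg X.gr X.gr (x • (LinearMap.id : X.carrier →ₗ[R] X.carrier)) d)
    (hπg : GrLC.IsGrHomDeg X.gr Y.gr π 0) (hπ : Function.Surjective π)
    (hex : Function.Exact (x • (LinearMap.id : X.carrier →ₗ[R] X.carrier)) π)
    (hX : Subsingleton (E.H m p)) (F : GrLC.StarInjRes 𝒜 Y.gr) (hY : Subsingleton (F.H m (p + 1))) :
    IsSMulRegular D.carrier x ∧ ∃ (D' : GrLC.GMod.{u} 𝒜) (τ : D.carrier →ₗ[R] D'.carrier),
      Function.Surjective τ ∧ LinearMap.ker τ = LinearMap.range (x • (LinearMap.id : D.carrier →ₗ[R] D.carrier)) ∧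
      ∃ B' : D'.carrier →+ F.H m p →+ GrLC.deg0 𝒜, GPair 𝒜 D'.gr (F.Hgr m p) B' := by
  classical
  letI : Field (GrLC.deg0 𝒜) := h0.toField
  obtain ⟨-, hles⟩ := exists_les _ π hμ hπg hreg hπ hex E E F m
  obtain ⟨δ, hδ, -, e2, e3⟩ := hles p
  obtain ⟨-, -, e1', -, -⟩ := hles (p + 1)
  rw [hmap_smul_id m hμ hx] at e1' e3
  have hsurj : ∀ z : E.H m (p + 1), ∃ y, x • y = z := fun z => (e1' z).1 (Subsingleton.elim _ _)
  have hinj : Function.Injective δ := (injective_iff_map_eq_zero δ).2 fun y hy => by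
    obtain ⟨w, rfl⟩ := (e2 y).1 hy
    rw [Subsingleton.elim w 0, map_zero]
  have hxδ : ∀ y, x • δ y = 0 := fun y => (e3 _).2 ⟨y, rfl⟩
  have hregD : IsSMulRegular D.carrier x := IsSMulRegular.of_right_eq_zero_of_smul fun c hc =>
    eq_zero_of_forall P fun z => by
      obtain ⟨y, rfl⟩ := hsurj z
      rw [← P.smul, hc, map_zero, AddMonoidHom.zero_apply]
  refine ⟨hregD, ?_⟩
  let μD : D.carrier →ₗ[R] D.carrier := x • LinearMap.id
  have hK : (LinearMap.range μD).IsHomogeneous D.gr := by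
    rintro g _ ⟨w, rfl⟩
    refine ⟨(decompose D.gr w (g - d) : D.carrier), ?_⟩
    rw [map_decompose_deg μD (isGrHomDeg_smul_id hx), sub_add_cancel]
  let Q := quotGMod 𝒜 D.gr (LinearMap.range μD) hK
  let D' := shiftGMod 𝒜 Q.gr d
  let τ : D.carrier →ₗ[R] D'.carrier := (LinearMap.range μD).mkQ
  have hτs : Function.Surjective τ := Submodule.mkQ_surjective _
  have hτk : ∀ c, τ c = 0 ↔ ∃ w, x • w = c := fun c => (Submodule.Quotient.mk_eq_zero _)
  have hwd : ∀ c c', τ c = τ c' → ∀ y, B c (δ y) = B c' (δ y) := fun c c' h y => by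
    obtain ⟨w, hw⟩ := (hτk (c - c')).1 (by rw [map_sub, h, sub_self])
    rw [← sub_eq_zero, ← AddMonoidHom.sub_apply, ← map_sub, ← hw, P.smul, hxδ, map_zero]
  choose sec hsec using hτs
  let B' : D'.carrier →+ F.H m p →+ GrLC.deg0 𝒜 :=
    AddMonoidHom.mk' (fun q => (B (sec q)).comp δ.toAddMonoidHom) fun q q' => AddMonoidHom.ext fun y => by
      show B (sec (q + q')) (δ y) = B (sec q) (δ y) + B (sec q') (δ y)
      rw [← AddMonoidHom.add_apply, ← map_add]
      exact hwd _ _ (by rw [map_add, hsec, hsec, hsec]) y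
  have hB' : ∀ c y, B' (τ c) y = B c (δ y) := fun c y => hwd _ _ (hsec (τ c)) y
  have hpiece : ∀ n, ∀ q ∈ D'.gr n, ∃ c ∈ D.gr (n + d), τ c = q := fun n q hq => hq
  refine ⟨D', τ, Submodule.mkQ_surjective _, Submodule.ker_mkQ _, B',
    { smul := fun r q y => ?_, scal := fun a q y => ?_, vanish := ?_, eq_zero := ?_, exists_eq := ?_ }⟩
  · obtain ⟨c, rfl⟩ : ∃ c, τ c = q := ⟨_, hsec q⟩
    rw [← map_smul τ, hB', hB', P.smul, map_smul δ]
  · obtain ⟨c, rfl⟩ : ∃ c, τ c = q := ⟨_, hsec q⟩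
    rw [hB', hB', map_smul δ, P.scal]
  · intro n q hq j hj y hy
    obtain ⟨c, hc, rfl⟩ := hpiece n q hq
    rw [hB']
    exact P.vanish _ c hc (j + -d) (by omega) _ (hδ j y hy)
  · intro n q hq h
    obtain ⟨c, hc, rfl⟩ := hpiece n q hq
    let V : Submodule (GrLC.deg0 𝒜) (E.H m (p + 1)) := E.Hcomp m (p + 1) (-(n + d))
    let W : Submodule (GrLC.deg0 𝒜) (E.H m (p + 1)) := E.Hcomp m (p + 1) (-n)
    let l : V →ₗ[GrLC.deg0 𝒜] W :=
      { toFun := fun y => ⟨x • (y : E.H m (p + 1)), by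
          have h : ∀ z ∈ E.Hgr m (p + 1) (-(n + d)), x • z ∈ E.Hgr m (p + 1) (d + -(n + d)) := by
            rintro _ ⟨z, hz, rfl⟩
            exact ⟨x • z, SetLike.GradedSMul.smul_mem (B := (E.X (p + 1)).gr) hx hz, map_smul (E.toH m (p + 1)) x z⟩
          have := h y.1 y.2
          rwa [show d + -(n + d) = -n by ring] at this⟩
        map_add' := fun a b => Subtype.ext (smul_add x a.1 b.1)
        map_smul' := fun a b => Subtype.ext (smul_comm x (a : R) b.1) }
    let f : V →ₗ[GrLC.deg0 𝒜] GrLC.deg0 𝒜 :=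
      { toFun := fun y => B c y.1
        map_add' := fun a b => map_add (B c) a.1 b.1
        map_smul' := fun a b => P.scal a c b.1 }
    have hker : LinearMap.ker l ≤ LinearMap.ker f := by
      intro y hy
      obtain ⟨w, hw, hwy⟩ := exists_preimage_Hgr F E m δ hδ y.2
        ((e3 y.1).1 (congrArg Subtype.val (LinearMap.mem_ker.1 hy)))
      show B c y.1 = 0
      rw [← hwy, ← hB']
      exact h w (by rwa [show -(n + d) - -d = -n by ring] at hw)
    obtain ⟨g, hg⟩ := LinearMap.exists_extend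
      ((LinearMap.ker l).liftQ f hker ∘ₗ l.quotKerEquivRange.symm.toLinearMap)
    have hgl : ∀ y, g (l y) = f y := fun y => by
      have := LinearMap.congr_fun hg ⟨l y, LinearMap.mem_range_self l y⟩
      simp only [LinearMap.comp_apply, Submodule.subtype_apply, LinearEquiv.coe_coe] at this
      rw [this, LinearMap.quotKerEquivRange_symm_apply_image]
      rfl
    obtain ⟨c', hc', hc'v⟩ := P.exists_eq n (fun z => if hz : z ∈ W then g ⟨z, hz⟩ else 0)
      (fun z hz z' hz' => by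
        have hz1 : z ∈ W := hz
        have hz1' : z' ∈ W := hz'
        rw [dif_pos hz1, dif_pos hz1', dif_pos (add_mem hz1 hz1'), ← map_add]
        rfl)
      (fun a z hz => by
        have hz1 : z ∈ W := hz
        rw [dif_pos hz1, dif_pos (show (a : R) • z ∈ W from W.smul_mem a hz1)]
        exact (map_smul g a ⟨z, hz1⟩))
    refine (hτk c).2 ⟨c', ?_⟩
    refine (sub_eq_zero.1 (P.eq_zero (n + d) _ (sub_mem hc ?_) fun y hy => ?_)).symm
    · have := SetLike.GradedSMul.smul_mem (B := D.gr) hx hc'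
      rwa [vadd_eq_add, add_comm] at this
    · have hxy : x • y ∈ E.Hgr m (p + 1) (-n) := (l ⟨y, hy⟩).2
      rw [map_sub, AddMonoidHom.sub_apply, P.smul, hc'v _ hxy, dif_pos (show x • y ∈ W from hxy)]
      exact sub_eq_zero.2 (hgl ⟨y, hy⟩).symm
  · intro n g hga hgs
    let U : Submodule (GrLC.deg0 𝒜) (F.H m p) := F.Hcomp m p (-n)
    let V : Submodule (GrLC.deg0 𝒜) (E.H m (p + 1)) := E.Hcomp m (p + 1) (-(n + d))
    let dl : U →ₗ[GrLC.deg0 𝒜] V :=
      { toFun := fun y => ⟨δ y.1, by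
          have := hδ (-n) y.1 y.2
          rwa [show -n + -d = -(n + d) by ring] at this⟩
        map_add' := fun a b => Subtype.ext (map_add δ a.1 b.1)
        map_smul' := fun a b => Subtype.ext (map_smul δ (a : R) b.1) }
    let g' : U →ₗ[GrLC.deg0 𝒜] GrLC.deg0 𝒜 :=
      { toFun := fun y => g y.1
        map_add' := fun a b => hga _ a.2 _ b.2
        map_smul' := fun a b => hgs a _ b.2 }
    have hdl : LinearMap.ker dl = ⊥ := LinearMap.ker_eq_bot.2 fun a b h =>
      Subtype.ext (hinj (congrArg Subtype.val h))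
    obtain ⟨dl', hdl'⟩ := dl.exists_leftInverse_of_injective hdl
    obtain ⟨c, hc, hcv⟩ := P.exists_eq (n + d) (fun z => if hz : z ∈ V then g' (dl' ⟨z, hz⟩) else 0)
      (fun z hz z' hz' => by
        have hz1 : z ∈ V := hz
        have hz1' : z' ∈ V := hz'
        rw [dif_pos hz1, dif_pos hz1', dif_pos (add_mem hz1 hz1'), ← map_add, ← map_add]
        rfl)
      (fun a z hz => by
        have hz1 : z ∈ V := hz
        rw [dif_pos hz1, dif_pos (show (a : R) • z ∈ V from V.smul_mem a hz1)]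
        exact (congrArg g' (map_smul dl' a ⟨z, hz1⟩)).trans (map_smul g' a _))
    refine ⟨τ c, ⟨c, hc, rfl⟩, fun y hy => ?_⟩
    have hδy : δ y ∈ V := (dl ⟨y, hy⟩).2
    rw [hB', hcv _ hδy, dif_pos hδy]
    exact congrArg g' (LinearMap.congr_fun hdl' ⟨y, hy⟩)

end Groth.Agent.H1GrDual
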