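import Groth.Agent.GrLib8.AcycRes
import Groth.Agent.GrLib8.StarLocalArt
import Groth.Agent.GrLib8.Grading
import Groth.Agent.LC.CohAcyclic

/-!
# Change of rings for graded local cohomology
-/

set_option autoImplicit false
set_option linter.unusedSectionVars false
set_option linter.style.haveILetI false
set_option maxHeartbeats 1600000

universe u

open DirectSum

namespace Groth.Agent.H1GrDual

open GrLib8

variable {R T : Type u} [CommRing R] [CommRing T] {𝒜 : ℤ → AddSubgroup R} [GradedRing 𝒜]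
  {𝒯 : ℤ → AddSubgroup T} [GradedRing 𝒯] (φ : R →+* T) (hφ : ∀ j, ∀ r ∈ 𝒜 j, φ r ∈ 𝒯 j)

/-- Restriction of scalars of a graded module. -/
@[reducible] def res (X : GrLC.GMod.{u} 𝒯) : GrLC.GMod.{u} 𝒜 :=
  letI : Module R X.carrier := Module.compHom _ φ
  { carrier := X.carrier
    gr := X.gr
    gsmul := ⟨fun {i g r x} hr hx => X.gsmul.smul_mem (hφ i r hr) hx⟩ }

/-- Restriction of scalars of a linear map. -/
def resMap {X Y : GrLC.GMod.{u} 𝒯} (f : X.carrier →ₗ[T] Y.carrier) :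
    (res φ hφ X).carrier →ₗ[R] (res φ hφ Y).carrier where
  toFun x := f x
  map_add' := map_add f
  map_smul' r x := map_smul f (φ r) x

theorem gam_res (a : Ideal R) {b : Ideal T} (hle : a.map φ ≤ b) {N : ℕ} (hN : b ^ N ≤ a.map φ)
    (X : GrLC.GMod.{u} 𝒯) (x : X.carrier) :
    (x ∈ GrLC.gam a (res φ hφ X).carrier) ↔ x ∈ GrLC.gam b X.carrier := by
  constructor
  · rintro ⟨k, hk⟩
    refine ⟨N * k, fun s hs => ?_⟩
    rw [pow_mul] at hs
    have hs' : s ∈ (a ^ k).map φ := by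
      rw [Ideal.map_pow]
      exact Ideal.pow_right_mono hN k hs
    clear hs
    induction hs' using Submodule.span_induction with
    | mem y hy =>
      obtain ⟨r, hr, rfl⟩ := hy
      exact hk r hr
    | zero => exact zero_smul T x
    | add y z _ _ h h' => rw [add_smul, h, h', add_zero]
    | smul c y _ h => rw [smul_eq_mul, mul_smul, h, smul_zero]
  · rintro ⟨k, hk⟩
    exact ⟨k, fun r hr => hk (φ r) (Ideal.pow_right_mono hle k (Ideal.map_pow φ a k ▸ Ideal.mem_map_of_mem φ hr))⟩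

include hφ in
theorem isHomogeneous_map (a : HomogeneousIdeal 𝒜) : (a.toIdeal.map φ).IsHomogeneous 𝒯 := by
  classical
  have h : a.toIdeal.map φ =
      Ideal.span (φ '' {r | r ∈ a.toIdeal ∧ SetLike.IsHomogeneousElem 𝒜 r}) := by
    refine le_antisymm (Ideal.map_le_iff_le_comap.2 fun r hr => ?_) (Ideal.span_le.2 ?_)
    · rw [Ideal.mem_comap, ← sum_support_decompose 𝒜 r, map_sum]
      exact Ideal.sum_mem _ fun i _ => Ideal.subset_span ⟨_, ⟨a.isHomogeneous i hr, ⟨i, SetLike.coe_mem _⟩⟩, rfl⟩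
    · rintro _ ⟨r, hr, rfl⟩
      exact Ideal.mem_map_of_mem φ hr.1
  rw [h]
  refine Ideal.homogeneous_span 𝒯 _ ?_
  rintro _ ⟨r, ⟨-, i, hi⟩, rfl⟩
  exact ⟨i, hφ i r hi⟩

variable [IsNoetherianRing R] [IsNoetherianRing T]

theorem hVan_res (a : HomogeneousIdeal 𝒜) (X : GrLC.GMod.{u} 𝒯) (hX : GrLC.IsStarInj 𝒯 X.gr) (i : ℕ) (g : ℤ) :
    HVan a (res φ hφ X) (i + 1) g := by
  intro E
  letI : Algebra R T := φ.toAlgebra
  letI : Module R X.carrier := Module.compHom _ φ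
  haveI : IsScalarTower R T X.carrier := ⟨fun r t x => (mul_smul (φ r) t x)⟩
  obtain ⟨e⟩ := nonempty_H_equiv _ E a (i + 1)
  obtain ⟨ψ, -⟩ := LC.exists_indep (R' := T) a.toIdeal (i + 1) X.carrier
  haveI h := subsingleton_H_of_isStarInj ⟨a.toIdeal.map φ, isHomogeneous_map φ hφ a⟩ X hX i
  haveI := @Equiv.subsingleton _ _ ψ.toEquiv.symm h
  haveI := @Equiv.subsingleton _ _ e.toEquiv this
  exact Hcomp_eq_bot_of_subsingleton E a (i + 1) g

/-- The restriction of a *injective resolution. -/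
noncomputable def resARes (a : HomogeneousIdeal 𝒜) {P : GrLC.GMod.{u} 𝒜} {M : GrLC.GMod.{u} 𝒯}
    (e : P.carrier →ₗ[R] (res φ hφ M).carrier) (he : GrLC.IsGrHom P.gr (res φ hφ M).gr e)
    (heb : Function.Bijective e) (F : GrLC.StarInjRes 𝒯 M.gr) : ARes a P where
  A n := res φ hφ (F.X n)
  d n := resMap φ hφ (F.d n)
  ε := resMap φ hφ F.ε ∘ₗ e
  d_grHom n := F.d_grHom n
  ε_grHom g x hx := F.ε_grHom g _ (he g x hx)
  ε_injective := F.ε_injective.comp heb.1
  exact_zero := Submodule.ext fun x => by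
    constructor
    · intro hx
      obtain ⟨y, hy⟩ := F.exact_zero.le (show (x : (F.X 0).carrier) ∈ LinearMap.ker (F.d 0) from hx)
      obtain ⟨z, rfl⟩ := heb.2 y
      exact ⟨z, hy⟩
    · rintro ⟨z, rfl⟩
      exact F.exact_zero.ge ⟨e z, rfl⟩
  exact_succ n := Submodule.ext fun x => by
    constructor
    · intro hx
      obtain ⟨y, hy⟩ := (F.exact_succ n).le (show (x : (F.X (n + 1)).carrier) ∈ LinearMap.ker (F.d (n + 1)) from hx)
      exact ⟨y, hy⟩
    · rintro ⟨z, rfl⟩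
      exact (F.exact_succ n).ge ⟨z, rfl⟩
  acyc n := hVan_res φ hφ a (F.X n) (F.starInj n)

/-- Cohomology does not change along a change of rings. -/
theorem exists_change (a : HomogeneousIdeal 𝒜) (b : HomogeneousIdeal 𝒯) (hle : a.toIdeal.map φ ≤ b.toIdeal)
    {N : ℕ} (hN : b.toIdeal ^ N ≤ a.toIdeal.map φ) {P : GrLC.GMod.{u} 𝒜} {M : GrLC.GMod.{u} 𝒯}
    (e : P.carrier →ₗ[R] (res φ hφ M).carrier) (he : GrLC.IsGrHom P.gr (res φ hφ M).gr e)
    (heb : Function.Bijective e) (E : GrLC.StarInjRes 𝒜 P.gr) (F : GrLC.StarInjRes 𝒯 M.gr) (p : ℕ) :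
    ∃ ι : F.H b p ≃+ E.H a p, (∀ (r : R) x, ι (φ r • x) = r • ι x) ∧
      (∀ g, ∀ x ∈ F.Hgr b p g, ι x ∈ E.Hgr a p g) ∧ ∀ g, ∀ y ∈ E.Hgr a p g, ι.symm y ∈ F.Hgr b p g := by
  classical
  let r := resARes φ hφ a e he heb F
  obtain ⟨Ψ, hΨs, hΨk, hΨg, -⟩ := r.exists_psi p E
  have hgam : ∀ n (z : (F.X n).carrier), z ∈ GrLC.gam a.toIdeal (res φ hφ (F.X n)).carrier ↔
      z ∈ GrLC.gam b.toIdeal (F.X n).carrier := fun n z => gam_res φ hφ a.toIdeal hle hN (F.X n) z
  have hcoc : ∀ n (z : (F.X n).carrier), z ∈ r.cocyc n ↔ z ∈ F.cocyc b n := fun n z => and_congr (hgam n z) Iff.rfl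
  have hcob : ∀ n (z : (F.X n).carrier), z ∈ r.cobdy n ↔ z ∈ F.cobdy b n := by
    intro n z
    cases n with
    | zero => exact Iff.rfl
    | succ n =>
      constructor
      · rintro ⟨w, hw, rfl⟩; exact ⟨w, (hgam n w).1 hw, rfl⟩
      · rintro ⟨w, hw, rfl⟩; exact ⟨w, (hgam n w).2 hw, rfl⟩
  let j : F.cocyc b p →+ E.H a p := AddMonoidHom.mk' (fun z => Ψ ⟨z.1, (hcoc p z.1).2 z.2⟩) fun z w => by
    exact map_add Ψ ⟨z.1, (hcoc p z.1).2 z.2⟩ ⟨w.1, (hcoc p w.1).2 w.2⟩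
  have hjk : ∀ z, j z = 0 ↔ F.toH b p z = 0 := fun z => by
    rw [toH_eq_zero, ← hcob]
    exact hΨk _
  have hsec : ∀ x : F.H b p, ∃ z, F.toH b p z = x := toH_surj F b p
  choose sec hsec using hsec
  have hj : ∀ z w, F.toH b p z = F.toH b p w → j z = j w := fun z w h =>
    sub_eq_zero.1 ((map_sub j z w).symm.trans ((hjk _).2 (by rw [map_sub, h, sub_self])))
  let ι₀ : F.H b p →+ E.H a p := AddMonoidHom.mk' (fun x => j (sec x)) fun x y => by
    rw [← map_add]
    exact hj _ _ (by rw [hsec, map_add, hsec, hsec])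
  have hι : ∀ z, ι₀ (F.toH b p z) = j z := fun z => hj _ _ (hsec _)
  have hbij : Function.Bijective ι₀ := by
    refine ⟨(injective_iff_map_eq_zero ι₀).2 fun x hx => ?_, fun y => ?_⟩
    · obtain ⟨z, rfl⟩ := toH_surj F b p x
      rw [hι] at hx
      exact (hjk z).1 hx
    · obtain ⟨z, rfl⟩ := hΨs y
      exact ⟨F.toH b p ⟨z.1, (hcoc p z.1).1 z.2⟩, hι _⟩
  let ι := AddEquiv.ofBijective ι₀ hbij
  have hg : ∀ g, ∀ x ∈ F.Hgr b p g, ι x ∈ E.Hgr a p g := by
    rintro g _ ⟨z, hz, rfl⟩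
    show ι₀ _ ∈ _
    rw [hι]
    exact hΨg g _ hz
  refine ⟨ι, fun c x => ?_, hg, fun g y hy => ?_⟩
  · obtain ⟨z, rfl⟩ := toH_surj F b p x
    show ι₀ _ = c • ι₀ _
    rw [← map_smul (F.toH b p), hι, hι]
    exact map_smul Ψ c ⟨z.1, (hcoc p z.1).2 z.2⟩
  · letI := (isInternal_Hgr M.gr F b p).chooseDecomposition
    letI := (isInternal_Hgr P.gr E a p).chooseDecomposition
    have hdec : ∀ x : F.H b p, ι (decompose (F.Hgr b p) x g : F.H b p) = (decompose (E.Hgr a p) (ι x) g : E.H a p) := by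
      intro x
      induction x using DirectSum.Decomposition.inductionOn (F.Hgr b p) with
      | zero => simp
      | add u v hu hv => simp only [map_add, decompose_add, DirectSum.add_apply, AddMemClass.coe_add, hu, hv]
      | @homogeneous i u =>
        rcases eq_or_ne i g with rfl | hne
        · rw [decompose_of_mem_same _ u.2, decompose_of_mem_same _ (hg i _ u.2)]
        · rw [decompose_of_mem_ne _ u.2 hne, decompose_of_mem_ne _ (hg i _ u.2) hne, map_zero]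
    have h := hdec (ι.symm y)
    rw [AddEquiv.apply_symm_apply, decompose_of_mem_same _ hy] at h
    rw [← ι.injective (h.trans (ι.apply_symm_apply y).symm)]
    exact SetLike.coe_mem _

end Groth.Agent.H1GrDual
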