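import Groth.Agent.H1GrDual.Avoid
import Groth.Agent.H1GrDual.Pair
import Groth.Agent.GrLib8.SegCMRing
import Mathlib.RingTheory.KrullDimension.Regular

/-!
# A regular sequence in an ideal with the pairings it carries
-/

set_option autoImplicit false
set_option linter.unusedSectionVars false
set_option maxHeartbeats 1600000

universe u

open DirectSum RingTheory.Sequence
open scoped Pointwise

namespace Groth.Agent.H1GrDual

open GrLib8 GrLib8.Canon

theorem ker_comp_eq {R : Type u} [CommRing R] {C D D' : Type u} [AddCommGroup C] [Module R C] [AddCommGroup D]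
    [Module R D] [AddCommGroup D'] [Module R D'] (σ : C →ₗ[R] D) (τ : D →ₗ[R] D') (hσ : Function.Surjective σ)
    (rs : List R) (x : R) (hσk : LinearMap.ker σ = Ideal.ofList rs • ⊤)
    (hτk : LinearMap.ker τ = LinearMap.range (x • (LinearMap.id : D →ₗ[R] D))) :
    LinearMap.ker (τ ∘ₗ σ) = Ideal.ofList (rs ++ [x]) • ⊤ := by
  rw [Ideal.ofList_append, Ideal.ofList_singleton, Submodule.sup_smul, ← hσk,
    Submodule.ideal_span_singleton_smul, LinearMap.ker_comp, hτk]
  refine le_antisymm (fun c hc => ?_) (sup_le (fun c hc => ?_) fun c hc => ?_)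
  · obtain ⟨w, hw⟩ := hc
    obtain ⟨c', rfl⟩ := hσ w
    have h1 : σ (c - x • c') = 0 := by
      rw [map_sub, map_smul, sub_eq_zero]
      exact hw.symm
    exact Submodule.mem_sup.2 ⟨c - x • c', h1, x • c', Submodule.smul_mem_pointwise_smul c' x ⊤ trivial,
      sub_add_cancel c (x • c')⟩
  · exact ⟨0, (smul_zero x).trans (LinearMap.mem_ker.1 hc).symm⟩
  · obtain ⟨c', -, rfl⟩ := (Submodule.mem_smul_pointwise_iff_exists c x ⊤).1 hc
    exact ⟨σ c', (map_smul σ x c').symm⟩

theorem isWeaklyRegular_concat {R : Type u} [CommRing R] [IsNoetherianRing R] {C D : Type u} [AddCommGroup C]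
    [Module R C] [AddCommGroup D] [Module R D] (σ : C →ₗ[R] D) (hσ : Function.Surjective σ) (rs : List R) (x : R)
    (hσk : LinearMap.ker σ = Ideal.ofList rs • ⊤) (h : IsWeaklyRegular C rs) (hx : IsSMulRegular D x) :
    IsWeaklyRegular C (rs ++ [x]) :=
  (LC.isWeaklyRegular_concat_iff rs x).2 ⟨h,
    (((Submodule.quotEquivOfEq _ _ hσk.symm).trans (σ.quotKerEquivOfSurjective hσ)).isSMulRegular_congr x).2 hx⟩

variable {R : Type u} [CommRing R] [LocCoh.IsCohenMacaulayRing R] {𝒜 : ℤ → AddSubgroup R} [GradedRing 𝒜]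
  (hpos : ∀ n : ℤ, n < 0 → 𝒜 n = ⊥) (h0 : IsField (GrLC.deg0 𝒜)) {m : HomogeneousIdeal 𝒜}
  (hm : GrLC.IsStarLocal 𝒜 m) {n : ℕ} (hn : ringKrullDim R = n)
  (C : Type u) [AddCommGroup C] [Module R C] (𝒞 : ℤ → AddSubgroup C) [Decomposition 𝒞]
  [SetLike.GradedSMul 𝒜 𝒞] (I : GrLC.StarInjRes 𝒜 𝒜) {B : C →+ I.H m n →+ GrLC.deg0 𝒜}
  (P : GPair 𝒜 𝒞 (I.Hgr m n) B) (J : Ideal R) (hJ : J.IsHomogeneous 𝒜)
  (hJ0 : ∀ e ≤ (0 : ℤ), ∀ r ∈ 𝒜 e, r ∈ J → r = 0) (hJm : J ≤ m.toIdeal) {n' : ℕ}
  (hd : ringKrullDim (R ⧸ J) ≤ n')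

include hpos h0 hm hn P hJ hJ0 hJm hd in
/-- A homogeneous regular sequence in `J`, together with the pairing it induces. -/
theorem exists_chain : ∀ i k : ℕ, i + k + n' = n → ∃ rs : List R, rs.length = i ∧
    (∀ r ∈ rs, r ∈ J ∧ SetLike.IsHomogeneousElem 𝒜 r) ∧ IsWeaklyRegular R rs ∧ IsWeaklyRegular C rs ∧
    ∃ (X : GrLC.GMod.{u} 𝒜) (π : R →ₗ[R] X.carrier), Function.Surjective π ∧
      LinearMap.ker π = Ideal.ofList rs • ⊤ ∧ GrLC.IsGrHom 𝒜 X.gr π ∧
      Module.supportDim R X.carrier + (i : WithBot ℕ∞) ≤ n ∧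
      ∃ (D : GrLC.GMod.{u} 𝒜) (σ : C →ₗ[R] D.carrier), Function.Surjective σ ∧
        LinearMap.ker σ = Ideal.ofList rs • ⊤ ∧
        ∃ (E : GrLC.StarInjRes 𝒜 X.gr) (B' : D.carrier →+ E.H m (k + n') →+ GrLC.deg0 𝒜),
          GPair 𝒜 D.gr (E.Hgr m (k + n')) B' := by
  classical
  intro i
  induction i with
  | zero =>
    intro k hk
    obtain rfl : n = k + n' := by omega
    refine ⟨[], rfl, by simp, .nil R R, .nil R C, GrLC.GMod.of 𝒜 R 𝒜, LinearMap.id, Function.surjective_id,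
      (by show LinearMap.ker (LinearMap.id : R →ₗ[R] R) = _; simp), fun _ _ hx => hx, ?_,
      GrLC.GMod.of 𝒜 C 𝒞, LinearMap.id, Function.surjective_id,
      (by show LinearMap.ker (LinearMap.id : C →ₗ[R] C) = _; simp), I, B, P⟩
    rw [Nat.cast_zero, add_zero]
    exact ((Module.supportDim_self_eq_ringKrullDim R).trans hn).le
  | succ i ih =>
    intro k hk
    obtain ⟨rs, hlen, hmem, hregR, hregC, X, π, hπ, hπk, hπg, hdimX, D, σ, hσ, hσk, E, B₁, P₁⟩ :=
      ih (k + 1) (by omega)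
    haveI : Module.Finite R X.carrier := Module.Finite.of_surjective π hπ
    have hcm := (GrCM.isCM_iff 𝒜 𝒜 hpos hm n ((Module.supportDim_self_eq_ringKrullDim R).trans hn)).1
      ((Seg.cmRing_iff R).1 inferInstance)
    have hdR : (n : ℕ∞) ≤ LocCoh.idealDepth m.toIdeal R := (LC.le_idealDepth_iff_H m.toIdeal R n).2 hcm
    have hdX : ((k + 1 + n' : ℕ) : ℕ∞) ≤ LocCoh.idealDepth m.toIdeal X.carrier := by
      have h := LC.idealDepth_quot_ofList m.toIdeal hregR fun r hr => hJm (hmem r hr).1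
      rw [LC.idealDepth_congr m.toIdeal ((Submodule.quotEquivOfEq _ _ hπk.symm).trans
        (π.quotKerEquivOfSurjective hπ)), hlen] at h
      rw [← h, show n = k + 1 + n' + i by omega, Nat.cast_add] at hdR
      exact (ENat.add_le_add_iff_right (ENat.natCast_ne_top i)).1 hdR
    obtain ⟨e, -, x, hx, hxJ, hreg⟩ := exists_regular_mem hpos hm X J hJ hJ0 n' hd
      (le_trans (Nat.cast_le.2 (by omega)) hdX)
    obtain ⟨Y, q, _, hμ, hqg, -, hq, hex, -⟩ := exists_regular_seq hx hreg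
    have hnat : k + 1 + n' = k + n' + 1 := by omega
    revert B₁
    rw [hnat]
    intro B₁ P₁
    have hX0 : Subsingleton (E.H m (k + n')) := by
      obtain ⟨e'⟩ := nonempty_H_equiv X.gr E m (k + n')
      haveI := (LC.le_idealDepth_iff_H m.toIdeal X.carrier (k + 1 + n')).1 hdX (k + n') (by omega)
      exact e'.toEquiv.subsingleton
    have hker : LinearMap.ker q = x • (⊤ : Submodule R X.carrier) := by
      rw [LinearMap.exact_iff.1 hex]
      refine Submodule.ext fun z => ⟨?_, ?_⟩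
      · rintro ⟨w, rfl⟩; exact Submodule.smul_mem_pointwise_smul w x ⊤ Submodule.mem_top
      · intro hz
        obtain ⟨w, -, rfl⟩ := (Submodule.mem_smul_pointwise_iff_exists z x ⊤).1 hz
        exact ⟨w, rfl⟩
    let eY : QuotSMulTop x X.carrier ≃ₗ[R] Y.carrier :=
      (Submodule.quotEquivOfEq _ _ hker.symm).trans (q.quotKerEquivOfSurjective hq)
    have hdimY : Module.supportDim R Y.carrier + ((i + 1 : ℕ) : WithBot ℕ∞) ≤ n := by
      rw [← Module.supportDim_eq_of_equiv eY, Nat.cast_add, Nat.cast_one, add_comm (i : WithBot ℕ∞), ← add_assoc]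
      refine le_trans (add_le_add (Module.supportDim_quotSMulTop_succ_le_of_notMem_minimalPrimes
        fun p hp => hreg.notMem_of_mem_minimalPrimes hp) le_rfl) hdimX
    let F := starRes (𝒜 := 𝒜) Y.gr
    have hY0 : Subsingleton (F.H m (k + n' + 1)) := by
      obtain ⟨e'⟩ := nonempty_H_equiv Y.gr F m (k + n' + 1)
      haveI := LC.subsingleton_H_of_supportDim_lt m.toIdeal Y.carrier (k + n' + 1) (by
        generalize Module.supportDim R Y.carrier = a at hdimY ⊢
        cases a with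
        | bot => exact WithBot.bot_lt_coe _
        | coe a =>
          cases a with
          | top =>
            refine absurd hdimY (not_le.2 ?_)
            exact_mod_cast (ENat.natCast_lt_top n).trans_le (le_add_right le_rfl)
          | coe a => norm_cast at hdimY ⊢; omega)
      exact e'.toEquiv.subsingleton
    obtain ⟨hregD, D', τ, hτ, hτk, B₂, P₂⟩ := step h0 E P₁ hx hreg q hμ hqg hq hex hX0 F hY0
    refine ⟨rs ++ [x], by simp [hlen], fun r hr => ?_, isWeaklyRegular_concat π hπ rs x hπk hregR hreg,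
      isWeaklyRegular_concat σ hσ rs x hσk hregC hregD, Y, q ∘ₗ π, hq.comp hπ,
      ker_comp_eq π q hπ rs x hπk (LinearMap.exact_iff.1 hex), fun g r hr => ?_, hdimY,
      D', τ ∘ₗ σ, hτ.comp hσ, ker_comp_eq σ τ hσ rs x hσk hτk, F, B₂, P₂⟩
    · rcases List.mem_append.1 hr with hr | hr
      · exact hmem r hr
      · rw [List.mem_singleton.1 hr]
        exact ⟨hxJ, e, hx⟩
    · have := hqg g _ (hπg g r hr)
      rwa [add_zero] at this

end Groth.Agent.H1GrDual
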